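import Groth.Prelude.Def_AnHol
import Groth.Agent.Lib.AnPtsTop.Affine
import Mathlib.AlgebraicGeometry.AffineSpace
import Mathlib.Analysis.Calculus.FDeriv.Mul
import Mathlib.Analysis.Calculus.FDeriv.Pi
import Mathlib.Analysis.Calculus.Deriv.Inv
import Mathlib.Analysis.Calculus.FDeriv.Comp

/-!
# Holomorphic functions on affine space
-/

set_option autoImplicit false
set_option backward.isDefEq.respectTransparency false
set_option linter.style.haveILetI false

open AlgebraicGeometry CategoryTheory TopologicalSpace Topology Opposite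

noncomputable section

namespace Groth.Agent.HolAffine5

variable (n : ℕ)

local notation "A" => 𝔸(Fin n; An.SC)

/-- The coordinates of a point of affine space. -/
def coords (x : An.Pts A) : Fin n → ℂ := fun i => x.evTop (AffineSpace.coord An.SC i)

theorem generators_surjective :
    Function.Surjective (MvPolynomial.eval₂Hom (An.strHom A) (AffineSpace.coord (n := Fin n) An.SC)) := by
  have h : Function.Bijective ((AffineSpace.SpecIso (Fin n) (CommRingCat.of ℂ)).hom.appTop) :=
    ConcreteCategory.bijective_of_isIso _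
  rw [AffineSpace.SpecIso_hom_appTop] at h
  intro f
  obtain ⟨z, hz⟩ := h.2 f
  exact ⟨(Scheme.ΓSpecIso _).hom z, hz⟩

theorem coords_surjective : Function.Surjective (coords n) := by
  intro z
  let v : Fin n → Γ(An.SC, ⊤) := fun i => (Scheme.ΓSpecIso (CommRingCat.of ℂ)).inv (z i)
  refine ⟨⟨AffineSpace.homOfVector (𝟙 An.SC) v, AffineSpace.homOfVector_over _ _⟩, funext fun i => ?_⟩
  show An.Pts.evTop _ _ = z i
  rw [AnPtsTop.evTop_eq_appTop]
  show (Scheme.ΓSpecIso (CommRingCat.of ℂ)).hom
    ((AffineSpace.homOfVector (𝟙 An.SC) v).appTop (AffineSpace.coord An.SC i)) = z i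
  rw [AffineSpace.homOfVector_appTop_coord]
  exact congrArg (fun φ => φ.hom (z i)) (Scheme.ΓSpecIso (CommRingCat.of ℂ)).inv_hom_id

theorem isClosedEmbedding_coords : IsClosedEmbedding (coords n) :=
  AnPtsTop.isClosedEmbedding_of_generators _ (generators_surjective n)

theorem isOpen_image_coords (U : Opens (An.Pts A)) : IsOpen (coords n '' (U : Set (An.Pts A))) := by
  have : coords n '' (U : Set (An.Pts A)) = ((isClosedEmbedding_coords n).toHomeomorphOfSurjective
      (coords_surjective n)) '' (U : Set (An.Pts A)) := rfl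
  rw [this]
  exact (Homeomorph.isOpenMap _) _ U.2

theorem differentiable_eval (P : MvPolynomial (Fin n) ℂ) :
    Differentiable ℂ fun z : Fin n → ℂ => MvPolynomial.eval z P := by
  induction P using MvPolynomial.induction_on with
  | C a => simp only [MvPolynomial.eval_C]; exact differentiable_const a
  | add p q hp hq => simp only [map_add]; exact hp.add hq
  | mul_X p i hp =>
    simp only [map_mul, MvPolynomial.eval_X]
    exact hp.mul (differentiable_apply i)

/-- A regular function is locally a differentiable function of the coordinates. -/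
theorem exists_differentiable_ev (x : An.Pts A) (W : (A).Opens) (hx : x.pt ∈ W) (f : Γ(A, W)) :
    ∃ (O : Set (Fin n → ℂ)) (R : (Fin n → ℂ) → ℂ), IsOpen O ∧ coords n x ∈ O ∧ DifferentiableOn ℂ R O ∧
      ∀ y : An.Pts A, coords n y ∈ O → ∃ h : y.pt ∈ W, y.ev W h f = R (coords n y) := by
  let s := AffineSpace.coord (n := Fin n) An.SC
  obtain ⟨h, hle, hxh⟩ := (isAffineOpen_top A).exists_basicOpen_le (V := W) ⟨x.pt, hx⟩ (Opens.mem_top _)
  have := (isAffineOpen_top A).isLocalization_basicOpen h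
  obtain ⟨k, a, e⟩ := IsLocalization.Away.surj h ((A).presheaf.map (homOfLE hle).op f)
  obtain ⟨P, rfl⟩ := generators_surjective n a
  obtain ⟨Q, rfl⟩ := generators_surjective n h
  have hiff : ∀ y : An.Pts A, y.pt ∈ (A).basicOpen (MvPolynomial.eval₂Hom (An.strHom A) s Q) ↔
      MvPolynomial.eval (coords n y) Q ≠ 0 := fun y => by
    rw [AnPtsTop.pt_mem_basicOpen_iff y (Opens.mem_top _)]
    change y.evTop _ ≠ 0 ↔ _
    rw [AnPtsTop.evTop_eval₂]
    rfl
  refine ⟨{z | MvPolynomial.eval z Q ≠ 0},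
    fun z => MvPolynomial.eval z P * (MvPolynomial.eval z Q ^ k)⁻¹,
    isOpen_ne_fun (MvPolynomial.continuous_eval Q) continuous_const, (hiff x).1 hxh, ?_, ?_⟩
  · exact (differentiable_eval n P).differentiableOn.mul
      (((differentiable_eval n Q).pow k).differentiableOn.inv fun z hz => pow_ne_zero k hz)
  · intro y hy
    have hy' := (hiff y).2 hy
    refine ⟨hle hy', ?_⟩
    have h1 := congrArg (AnPtsTop.evHom y _ hy') e
    rw [map_mul, map_pow] at h1
    change y.ev _ hy' ((A).presheaf.map _ f) * (y.ev _ hy' ((A).presheaf.map _ _)) ^ k =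
      y.ev _ hy' ((A).presheaf.map _ _) at h1
    rw [AnPtsTop.ev_res, AnPtsTop.ev_res, AnPtsTop.ev_res] at h1
    change y.ev W (hle hy') f * y.evTop _ ^ k = y.evTop _ at h1
    rw [AnPtsTop.evTop_eval₂, AnPtsTop.evTop_eval₂] at h1
    exact eq_mul_inv_iff_mul_eq₀ (pow_ne_zero k hy) |>.2 h1

/-- A function on an open set is locally differentiable in the coordinates. -/
def LocDiff (U : Opens (An.top A)) (g : U → ℂ) : Prop :=
  ∀ x : U, ∃ (O : Set (Fin n → ℂ)) (R : (Fin n → ℂ) → ℂ), IsOpen O ∧ coords n x.1 ∈ O ∧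
    DifferentiableOn ℂ R O ∧ ∀ y : U, coords n y.1 ∈ O → g y = R (coords n y.1)

theorem locDiff_of_isChartFun {U : Opens (An.top A)} {g : U → ℂ} (hg : An.IsChartFun U g) :
    LocDiff n U g := by
  obtain ⟨W, hW, m, s, V, G, hV, hG, h⟩ := hg
  intro x
  choose O R hO hxO hR hval using fun i => exists_differentiable_ev n x.1 W (hW x) (s i)
  let T : (Fin n → ℂ) → (Fin m → ℂ) := fun z i => R i z
  have hT : DifferentiableOn ℂ T (⋂ i, O i) :=
    differentiableOn_pi.2 fun i => (hR i).mono (Set.iInter_subset O i)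
  have hO' : IsOpen (⋂ i, O i) := isOpen_iInter_of_finite hO
  have hTx : ∀ y : U, coords n y.1 ∈ (⋂ i, O i) →
      T (coords n y.1) = fun i => An.Pts.ev y.1 W (hW y) (s i) := by
    intro y hy
    funext i
    obtain ⟨_, hi⟩ := hval i y.1 (Set.mem_iInter.1 hy i)
    exact hi.symm
  refine ⟨(⋂ i, O i) ∩ T ⁻¹' V, G ∘ T, hT.continuousOn.isOpen_inter_preimage hO' hV,
    ⟨Set.mem_iInter.2 hxO, ?_⟩, hG.comp (hT.mono Set.inter_subset_left) (fun z hz => hz.2), fun y hy => ?_⟩
  · show T _ ∈ V
    rw [hTx x (Set.mem_iInter.2 hxO)]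
    exact (h x).1
  · show g y = G (T _)
    rw [hTx y hy.1]
    exact (h y).2

theorem locDiff_of_chartAlg {U : Opens (An.top A)} {g : U → ℂ} (hg : g ∈ An.chartAlg U) :
    LocDiff n U g := by
  induction hg using Algebra.adjoin_induction with
  | mem g hg => exact locDiff_of_isChartFun n hg
  | algebraMap c => exact fun x => ⟨Set.univ, fun _ => c, isOpen_univ, trivial, differentiableOn_const c,
      fun y _ => rfl⟩
  | add a b _ _ ha hb =>
    intro x
    obtain ⟨O, R, hO, hxO, hR, h⟩ := ha x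
    obtain ⟨O', R', hO', hxO', hR', h'⟩ := hb x
    exact ⟨O ∩ O', R + R', hO.inter hO', ⟨hxO, hxO'⟩,
      (hR.mono Set.inter_subset_left).add (hR'.mono Set.inter_subset_right),
      fun y hy => by simp only [Pi.add_apply, h y hy.1, h' y hy.2]⟩
  | mul a b _ _ ha hb =>
    intro x
    obtain ⟨O, R, hO, hxO, hR, h⟩ := ha x
    obtain ⟨O', R', hO', hxO', hR', h'⟩ := hb x
    exact ⟨O ∩ O', R * R', hO.inter hO', ⟨hxO, hxO'⟩,
      (hR.mono Set.inter_subset_left).mul (hR'.mono Set.inter_subset_right),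
      fun y hy => by simp only [Pi.mul_apply, h y hy.1, h' y hy.2]⟩

theorem locDiff_of_holPred {U : Opens (An.top A)} {g : U → ℂ} (hg : (An.holPred A).pred g) :
    LocDiff n U g := by
  intro x
  obtain ⟨V, hxV, i, hV⟩ := hg x
  obtain ⟨O, R, hO, hxO, hR, h⟩ := locDiff_of_chartAlg n hV ⟨x.1, hxV⟩
  refine ⟨O ∩ coords n '' (SetLike.coe V : Set (An.top A)), R, hO.inter (isOpen_image_coords n V),
    ⟨hxO, ⟨x.1, hxV, rfl⟩⟩, hR.mono Set.inter_subset_left, fun y hy => ?_⟩
  obtain ⟨y', hy', e⟩ := hy.2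
  have e' : y' = y.1 := (isClosedEmbedding_coords n).injective e
  have := h ⟨y.1, e' ▸ hy'⟩ hy.1
  exact this

/-- The holomorphic functions on an open set of affine space are the differentiable functions of the
coordinates. -/
theorem holPred_iff (U : Opens (An.Pts A)) (g : U → ℂ) :
    (An.holPred A).pred g ↔ ∃ G : (Fin n → ℂ) → ℂ,
      DifferentiableOn ℂ G (coords n '' (U : Set (An.Pts A))) ∧ ∀ x : U, g x = G (coords n x.1) := by
  classical
  have hinj := (isClosedEmbedding_coords n).injective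
  constructor
  · intro hg
    let G : (Fin n → ℂ) → ℂ := fun z => if h : ∃ y : U, coords n y.1 = z then g h.choose else 0
    have hG : ∀ x : U, G (coords n x.1) = g x := by
      intro x
      have h : ∃ y : U, coords n y.1 = coords n x.1 := ⟨x, rfl⟩
      simp only [G, dif_pos h]
      exact congrArg g (Subtype.ext (hinj h.choose_spec))
    refine ⟨G, ?_, fun x => (hG x).symm⟩
    rintro _ ⟨y, hy, rfl⟩
    obtain ⟨O, R, hO, hyO, hR, h⟩ := locDiff_of_holPred n hg ⟨y, hy⟩
    have hopen : IsOpen (coords n '' (U : Set (An.Pts A)) ∩ O) := (isOpen_image_coords n U).inter hO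
    have hmem : coords n y ∈ coords n '' (U : Set (An.Pts A)) ∩ O := ⟨⟨y, hy, rfl⟩, hyO⟩
    refine (((hR.mono Set.inter_subset_right).congr ?_).differentiableAt
      (hopen.mem_nhds hmem)).differentiableWithinAt
    rintro _ ⟨⟨z, hz, rfl⟩, hzO⟩
    exact (hG ⟨z, hz⟩).trans (h ⟨z, hz⟩ hzO)
  · rintro ⟨G, hG, hg⟩
    exact An.holPred_of_chartAlg (Algebra.subset_adjoin ⟨⊤, fun _ => trivial, n,
      AffineSpace.coord An.SC, coords n '' (U : Set (An.Pts A)), G, isOpen_image_coords n U, hG,
      fun x => ⟨⟨x.1, x.2, rfl⟩, hg x⟩⟩)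

end Groth.Agent.HolAffine5
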